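import Mathlib

/-!
Local factors of `L ⊗ Ω` for a finite extension `L/k` and an algebraic closure `Ω`:
each has length the inseparable degree of `L/k`.
-/

set_option autoImplicit false
universe u

open TensorProduct IsLocalRing

namespace Groth.Agent.H06RamBC

variable {k L Ω : Type u} [Field k] [Field L] [Field Ω] [Algebra k L] [Algebra k Ω]

/-- The point of `Ω ⊗ L` given by an embedding. -/
noncomputable def ev (φ : L →ₐ[k] Ω) : Ω ⊗[k] L →ₐ[Ω] Ω :=
  Algebra.TensorProduct.lift (Algebra.ofId Ω Ω) φ fun _ _ => Commute.all _ _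

theorem ev_tmul (φ : L →ₐ[k] Ω) (a : Ω) (l : L) : ev φ (a ⊗ₜ l) = a * φ l :=
  Algebra.TensorProduct.lift_tmul ..

noncomputable def pt (φ : L →ₐ[k] Ω) : PrimeSpectrum (Ω ⊗[k] L) :=
  ⟨RingHom.ker (ev φ), RingHom.ker_isPrime _⟩

theorem pt_injective : Function.Injective (pt (k := k) (L := L) (Ω := Ω)) := by
  intro φ ψ h
  have h' : RingHom.ker (ev φ) = RingHom.ker (ev ψ) := congrArg PrimeSpectrum.asIdeal h
  ext l
  let z : Ω ⊗[k] L := (1 : Ω) ⊗ₜ l - algebraMap Ω _ (φ l)
  have hz : z ∈ RingHom.ker (ev φ) := by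
    rw [RingHom.mem_ker, map_sub, AlgHom.commutes, ev_tmul, one_mul]; simp
  rw [h', RingHom.mem_ker, map_sub, AlgHom.commutes, ev_tmul, one_mul, sub_eq_zero] at hz
  simpa using hz.symm

variable [IsAlgClosed Ω] [Module.Finite k L]

theorem algebraMap_quotient_bijective (q : Ideal (Ω ⊗[k] L)) [q.IsPrime] :
    Function.Bijective (algebraMap Ω ((Ω ⊗[k] L) ⧸ q)) :=
  IsAlgClosed.algebraMap_bijective_of_isIntegral

theorem pt_surjective : Function.Surjective (pt (k := k) (L := L) (Ω := Ω)) := by
  intro q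
  let e : Ω ≃ₐ[Ω] (Ω ⊗[k] L) ⧸ q.asIdeal :=
    AlgEquiv.ofBijective (Algebra.ofId _ _) (algebraMap_quotient_bijective q.asIdeal)
  let χ : Ω ⊗[k] L →ₐ[Ω] Ω := e.symm.toAlgHom.comp (Ideal.Quotient.mkₐ Ω q.asIdeal)
  refine ⟨(χ.restrictScalars k).comp Algebra.TensorProduct.includeRight, ?_⟩
  have h : ev ((χ.restrictScalars k).comp Algebra.TensorProduct.includeRight) = χ := by
    apply Algebra.TensorProduct.ext
    · exact AlgHom.ext fun a => (AlgHom.commutes _ a).trans (AlgHom.commutes _ a).symm
    · refine AlgHom.ext fun l => ?_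
      show ev _ ((1 : Ω) ⊗ₜ l) = χ ((1 : Ω) ⊗ₜ l)
      rw [ev_tmul, one_mul]
      rfl
  apply PrimeSpectrum.ext
  show RingHom.ker (ev _) = q.asIdeal
  rw [h]
  ext z
  rw [RingHom.mem_ker]
  show e.symm (Ideal.Quotient.mk q.asIdeal z) = 0 ↔ _
  rw [map_eq_zero_iff _ e.symm.injective, Ideal.Quotient.eq_zero_iff_mem]

theorem finrank_eq_length (q : Ideal (Ω ⊗[k] L)) [q.IsPrime] :
    (Module.finrank Ω (Localization.AtPrime q) : ℕ∞) =
      Module.length (Localization.AtPrime q) (Localization.AtPrime q) := by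
  haveI : IsArtinianRing (Ω ⊗[k] L) := IsArtinianRing.of_finite Ω _
  haveI : Module.Finite Ω (Localization.AtPrime q) :=
    Module.Finite.of_surjective (Algebra.algHom Ω (Ω ⊗[k] L) (Localization.AtPrime q)).toLinearMap
      (IsArtinianRing.localization_surjective q.primeCompl (Localization.AtPrime q))
  haveI : IsLocalHom (algebraMap Ω (Localization.AtPrime q)) := ⟨fun a ha => by
    rw [isUnit_iff_ne_zero]
    rintro rfl
    rw [map_zero] at ha
    exact not_isUnit_zero ha⟩
  haveI : Module.Finite Ω (ResidueField (Localization.AtPrime q)) :=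
    Module.Finite.of_surjective (IsScalarTower.toAlgHom Ω (Localization.AtPrime q)
      (ResidueField (Localization.AtPrime q))).toLinearMap residue_surjective
  have hres : Module.finrank (ResidueField Ω) (ResidueField (Localization.AtPrime q)) = 1 := by
    haveI : IsAlgClosed (ResidueField Ω) :=
      IsAlgClosed.of_ringEquiv Ω _ (RingEquiv.ofBijective (residue Ω) ⟨(residue Ω).injective, residue_surjective⟩)
    haveI : Module.Finite (ResidueField Ω) (ResidueField (Localization.AtPrime q)) :=
      Module.Finite.of_restrictScalars_finite Ω _ _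
    exact (LinearEquiv.ofBijective (Algebra.linearMap (ResidueField Ω) (ResidueField (Localization.AtPrime q)))
      IsAlgClosed.algebraMap_bijective_of_isIntegral).finrank_eq.symm.trans (Module.finrank_self _)
  haveI : Module.Finite (ResidueField Ω) (ResidueField (Localization.AtPrime q)) :=
      Module.Finite.of_restrictScalars_finite Ω _ _
  have h := IsLocalRing.length_restrictScalars Ω (Localization.AtPrime q) (Localization.AtPrime q)
  rw [Module.length_of_free_of_finite, Module.length_of_free_of_finite (R := ResidueField Ω), hres] at h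
  simpa using h

theorem length_pt_eq [Algebra.IsAlgebraic k Ω] (σ τ : L →ₐ[k] Ω) :
    Module.length (Localization.AtPrime (pt σ).asIdeal) (Localization.AtPrime (pt σ).asIdeal) =
      Module.length (Localization.AtPrime (pt τ).asIdeal) (Localization.AtPrime (pt τ).asIdeal) := by
  haveI : IsAlgClosure k Ω := ⟨inferInstance, inferInstance⟩
  haveI : Normal k Ω := IsAlgClosure.normal k Ω
  let e : σ.fieldRange →ₐ[k] Ω :=
    τ.comp (AlgEquiv.ofInjectiveField σ).symm.toAlgHom
  let g : Ω →ₐ[k] Ω := e.liftNormal Ω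
  have hg : ∀ l, g (σ l) = τ l := by
    intro l
    have h := e.liftNormal_commutes Ω ((AlgEquiv.ofInjectiveField σ) l)
    rw [show algebraMap (↥σ.fieldRange) Ω ((AlgEquiv.ofInjectiveField σ) l) = σ l from rfl] at h
    refine h.trans ?_
    show τ ((AlgEquiv.ofInjectiveField σ).symm _) = τ l
    rw [AlgEquiv.symm_apply_apply]
  let g' : Ω ≃ₐ[k] Ω := AlgEquiv.ofBijective g (Algebra.IsAlgebraic.algHom_bijective g)
  let G : Ω ⊗[k] L ≃ₐ[k] Ω ⊗[k] L := Algebra.TensorProduct.congr g' AlgEquiv.refl
  have hG : ∀ z, ev τ (G z) = g (ev σ z) := by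
    intro z
    induction z using TensorProduct.induction_on with
    | zero => simp
    | tmul a l =>
      show ev τ (g' a ⊗ₜ l) = _
      rw [ev_tmul, ev_tmul, map_mul, hg]
      rfl
    | add x y hx hy => simp only [map_add, hx, hy]
  have hH : (pt σ).asIdeal.primeCompl.map G.toRingEquiv.toMonoidHom = (pt τ).asIdeal.primeCompl := by
    ext z
    rw [Submonoid.mem_map]
    constructor
    · rintro ⟨w, hw, rfl⟩ hz
      exact hw (by
        have h' : ev τ (G w) = 0 := hz
        rw [hG, map_eq_zero] at h'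
        exact h')
    · intro hz
      refine ⟨G.symm z, fun hw => hz ?_, G.apply_symm_apply z⟩
      show ev τ z = 0
      rw [← G.apply_symm_apply z, hG, show ev σ (G.symm z) = 0 from hw, map_zero]
  let E : Localization.AtPrime (pt σ).asIdeal ≃+* Localization.AtPrime (pt τ).asIdeal :=
    IsLocalization.ringEquivOfRingEquiv _ _ G.toRingEquiv hH
  rw [← WithBot.coe_inj, Module.coe_length, Module.coe_length]
  exact Order.krullDim_eq_of_orderIso E.symm.idealComapOrderIso

/-- Every local factor of `Ω ⊗ L` has length the inseparable degree. -/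
theorem length_localization [Algebra.IsAlgebraic k Ω] (q : Ideal (Ω ⊗[k] L)) [q.IsPrime] :
    Module.length (Localization.AtPrime q) (Localization.AtPrime q) = Field.finInsepDegree k L := by
  classical
  haveI : IsArtinianRing (Ω ⊗[k] L) := IsArtinianRing.of_finite Ω _
  let e : (L →ₐ[k] Ω) ≃ PrimeSpectrum (Ω ⊗[k] L) := Equiv.ofBijective pt ⟨pt_injective, pt_surjective⟩
  haveI : Fintype (L →ₐ[k] Ω) := Fintype.ofFinite _
  letI : Fintype (PrimeSpectrum (Ω ⊗[k] L)) := Fintype.ofEquiv _ e
  obtain ⟨σ, hσ⟩ := pt_surjective ⟨q, ‹_›⟩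
  have hq : q = (pt σ).asIdeal := (congrArg PrimeSpectrum.asIdeal hσ).symm
  subst hq
  let n := Module.finrank Ω (Localization.AtPrime (pt σ).asIdeal)
  have hall : ∀ p : PrimeSpectrum (Ω ⊗[k] L), Module.finrank Ω (Localization.AtPrime p.asIdeal) = n := by
    intro p
    obtain ⟨τ, rfl⟩ := pt_surjective p
    have := (finrank_eq_length (pt τ).asIdeal).trans ((length_pt_eq τ σ).trans (finrank_eq_length (pt σ).asIdeal).symm)
    exact_mod_cast this
  have hsum := IsArtinianRing.finrank_eq_sum_primeSpectrum (R := Ω ⊗[k] L) Ω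
  simp only [hall] at hsum
  rw [Finset.sum_const, Finset.card_univ, smul_eq_mul, Module.finrank_baseChange,
    ← Fintype.card_congr e, ← Nat.card_eq_fintype_card,
    ← Field.finSepDegree_eq_of_isAlgClosed k L Ω, ← Field.finSepDegree_mul_finInsepDegree] at hsum
  rw [← finrank_eq_length]
  norm_cast
  exact (Nat.eq_of_mul_eq_mul_left (Nat.pos_of_ne_zero (NeZero.ne (Field.finSepDegree k L))) hsum).symm

end Groth.Agent.H06RamBC
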