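import Groth.Agent.H06RamBC.Field
import Groth.Agent.H06DeltaBC.FieldExt

/-!
Fibre of a local ring of `X ⊗ Ω` over the local ring of `X`.
-/

set_option autoImplicit false
universe u

open TensorProduct IsLocalRing CategoryTheory CategoryTheory.Limits AlgebraicGeometry

namespace Groth.Agent.H06RamBC

theorem length_eq_of_ringEquiv {A B : Type u} [CommRing A] [CommRing B] (e : A ≃+* B) :
    Module.length A A = Module.length B B := by
  rw [← WithBot.coe_inj, Module.coe_length, Module.coe_length]
  exact Order.krullDim_eq_of_orderIso e.symm.idealComapOrderIso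

variable {k L Ω : Type u} [Field k] [Field L] [Field Ω] [Algebra k L] [Algebra k Ω]
  [IsAlgClosed Ω] [Module.Finite k L] [Algebra.IsAlgebraic k Ω]

theorem length_localization' (q : Ideal (L ⊗[k] Ω)) [q.IsPrime] :
    Module.length (Localization.AtPrime q) (Localization.AtPrime q) = Field.finInsepDegree k L := by
  let c : Ω ⊗[k] L ≃ₐ[k] L ⊗[k] Ω := Algebra.TensorProduct.comm k Ω L
  let q' : Ideal (Ω ⊗[k] L) := q.comap c.toRingEquiv.toRingHom
  haveI : q'.IsPrime := Ideal.IsPrime.comap _
  have H : q'.primeCompl.map c.toRingEquiv.toMonoidHom = q.primeCompl := by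
    ext z
    rw [Submonoid.mem_map]
    refine ⟨?_, fun hz => ⟨c.symm z, fun h => hz ?_, c.apply_symm_apply z⟩⟩
    · rintro ⟨w, hw, rfl⟩
      exact hw
    · have h' : c (c.symm z) ∈ q := h
      rwa [c.apply_symm_apply] at h'
  rw [← length_localization q']
  exact (length_eq_of_ringEquiv
    (IsLocalization.ringEquivOfRingEquiv (Localization.AtPrime q') (Localization.AtPrime q) c.toRingEquiv H)).symm

/-- The closed fibre of a localisation `B` of `A ⊗ Ω` over `A`. -/
theorem length_fibre {A B : Type u} [CommRing A] [IsLocalRing A] [Algebra k A] (f : A →ₐ[k] L)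
    (hf : Function.Surjective f) [CommRing B] [IsLocalRing B] (θ : A ⊗[k] Ω →+* B)
    (q : Ideal (A ⊗[k] Ω)) [q.IsPrime]
    (hθ : letI := θ.toAlgebra; IsLocalization.AtPrime B q)
    [IsLocalHom (θ.comp Algebra.TensorProduct.includeLeftRingHom)] :
    Module.length B (B ⧸ (maximalIdeal A).map (θ.comp Algebra.TensorProduct.includeLeftRingHom)) =
      Field.finInsepDegree k L := by
  letI := θ.toAlgebra
  let π : A ⊗[k] Ω →ₐ[k] L ⊗[k] Ω := Algebra.TensorProduct.map f (AlgHom.id k Ω)
  have hπ : Function.Surjective π := TensorProduct.map_surjective hf Function.surjective_id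
  have hker : RingHom.ker π = (maximalIdeal A).map (Algebra.TensorProduct.includeLeft : A →ₐ[k] A ⊗[k] Ω) := by
    rw [show maximalIdeal A = RingHom.ker f from
      (IsLocalRing.eq_maximalIdeal (RingHom.ker_isMaximal_of_surjective f hf)).symm]
    exact Algebra.TensorProduct.rTensor_ker _ hf
  have hkq : RingHom.ker π ≤ q := by
    rw [hker, Ideal.map_le_iff_le_comap]
    intro a ha
    rw [Ideal.mem_comap, ← IsLocalization.AtPrime.comap_maximalIdeal B q, Ideal.mem_comap]
    exact map_nonunit (θ.comp Algebra.TensorProduct.includeLeftRingHom) a ha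
  let q' : Ideal (L ⊗[k] Ω) := q.map π
  haveI : q'.IsPrime := Ideal.map_isPrime_of_surjective hπ hkq
  have hq' : ∀ z, π z ∈ q' ↔ z ∈ q := by
    intro z
    show z ∈ (q.map π).comap π ↔ _
    rw [Ideal.comap_map_of_surjective _ hπ]
    have : Ideal.comap π ⊥ ≤ q := hkq
    rw [sup_eq_left.mpr this]
  let C := Localization.AtPrime q'
  have hu : ∀ y : q.primeCompl, IsUnit (((algebraMap (L ⊗[k] Ω) C).comp π.toRingHom) y) := fun y =>
    IsLocalization.map_units C (⟨π y.1, fun h => y.2 ((hq' y.1).mp h)⟩ : q'.primeCompl)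
  let ψ : B →+* C := IsLocalization.lift hu
  have hψ : ∀ z, ψ (algebraMap _ B z) = algebraMap _ C (π z) := fun z => IsLocalization.lift_eq hu z
  have hψs : Function.Surjective ψ := by
    intro c
    obtain ⟨⟨a, s⟩, hc⟩ := IsLocalization.surj q'.primeCompl c
    obtain ⟨a', ha⟩ := hπ a
    obtain ⟨s', hs⟩ := hπ s
    have hs' : s' ∈ q.primeCompl := fun h => s.2 (hs ▸ (hq' s').mpr h)
    refine ⟨IsLocalization.mk' B a' (⟨s', hs'⟩ : q.primeCompl), ?_⟩
    apply (IsLocalization.map_units C s).mul_left_inj.mp
    rw [hc, ← ha, ← hs, ← hψ, ← hψ, ← map_mul, IsLocalization.mk'_spec]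
  let J := (maximalIdeal A).map (θ.comp Algebra.TensorProduct.includeLeftRingHom)
  have hJ : J = (RingHom.ker π).map θ := by
    rw [hker]
    exact (Ideal.map_map (Algebra.TensorProduct.includeLeftRingHom : A →+* A ⊗[k] Ω) θ).symm
  have hψker : RingHom.ker ψ = J := by
    apply le_antisymm
    · intro b hb
      obtain ⟨a, s, rfl⟩ := IsLocalization.exists_mk'_eq q.primeCompl b
      have h0 : algebraMap _ C (π a) = 0 := by
        rw [← hψ, ← IsLocalization.mk'_spec B a s, map_mul, RingHom.mem_ker.mp hb, zero_mul]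
      obtain ⟨⟨t, ht⟩, ht0⟩ := (IsLocalization.map_eq_zero_iff q'.primeCompl C _).mp h0
      obtain ⟨t', rfl⟩ := hπ t
      have ht' : t' ∈ q.primeCompl := fun h => ht ((hq' t').mpr h)
      have hmem : θ (t' * a) ∈ J := by
        rw [hJ]
        exact Ideal.mem_map_of_mem _ (RingHom.mem_ker.mpr (by rw [map_mul]; exact ht0))
      have h1 : algebraMap _ B (t' * s.1) * IsLocalization.mk' B a s ∈ J := by
        rw [map_mul, mul_assoc, mul_comm _ (IsLocalization.mk' B a s), IsLocalization.mk'_spec, ← map_mul]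
        exact hmem
      exact (Ideal.unit_mul_mem_iff_mem _ (IsLocalization.map_units B (⟨t' * s.1, q.primeCompl.mul_mem ht' s.2⟩ : q.primeCompl))).mp h1
    · rw [hJ, Ideal.map_le_iff_le_comap]
      intro z hz
      rw [Ideal.mem_comap, RingHom.mem_ker, show θ z = algebraMap _ B z from rfl, hψ, RingHom.mem_ker.mp hz, map_zero]
  rw [Module.length_eq_of_surjective (R := B ⧸ J) Ideal.Quotient.mk_surjective,
    ← length_localization' q']
  exact length_eq_of_ringEquiv ((Ideal.quotEquivOfEq hψker.symm).trans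
    (RingHom.quotientKerEquivOfSurjective hψs))

omit [IsAlgClosed Ω] [Algebra.IsAlgebraic k Ω] in
theorem finite_residueField (k : Type u) [Field k] (X : Scheme.{u}) [X.Over (Spec (CommRingCat.of k))]
    [LocallyOfFiniteType (X ↘ Spec (CommRingCat.of k))] (x : X) (hx : IsClosed ({x} : Set X)) :
    (Curv2.resMap k X x).Finite := by
  haveI : IsClosedImmersion (X.fromSpecResidueField x) := isClosed_singleton_iff_isClosedImmersion.mp hx
  have h : X.fromSpecResidueField x ≫ (X ↘ Spec (CommRingCat.of k)) =
      Spec.map (CommRingCat.ofHom (Curv2.resMap k X x)) := by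
    show (Spec.map (X.residue x) ≫ X.fromSpecStalk x) ≫ _ = _
    rw [Category.assoc, H22Alg.GeomReducedAt.fromSpecStalk_over, ← Spec.map_comp]
    rfl
  haveI : LocallyOfFiniteType (Spec.map (CommRingCat.ofHom (Curv2.resMap k X x))) := by
    rw [← h]; infer_instance
  exact (IsFinite.SpecMap_iff (CommRingCat.ofHom (Curv2.resMap k X x))).mp
    ((isFinite_iff_locallyOfFiniteType_of_jacobsonSpace (f := Spec.map (CommRingCat.ofHom (Curv2.resMap k X x)))).mpr this)

theorem ramificationIdx_bc (k : Type u) [Field k] (X : Scheme.{u}) [X.Over (Spec (CommRingCat.of k))]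
    [LocallyOfFiniteType (X ↘ Spec (CommRingCat.of k))]
    (xb : Curv2.bc k X (AlgebraicClosure k)) (hxb : IsClosed ({xb} : Set (Curv2.bc k X (AlgebraicClosure k)))) :
    letI := Curv2.resAlgebra k X (Curv2.bcFst k X (AlgebraicClosure k) xb)
    letI := ((Curv2.bcFst k X (AlgebraicClosure k)).stalkMap xb).hom.toAlgebra
    Ideal.ramificationIdx (maximalIdeal ((Curv2.bc k X (AlgebraicClosure k)).presheaf.stalk xb))
        (X.presheaf.stalk (Curv2.bcFst k X (AlgebraicClosure k) xb)) =
      Field.finInsepDegree k (X.residueField (Curv2.bcFst k X (AlgebraicClosure k) xb)) := by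
  let x : X := Curv2.bcFst k X (AlgebraicClosure k) xb
  haveI : IsIntegralHom (Curv2.bcFst k X (AlgebraicClosure k)) := by
    refine MorphismProperty.pullback_fst _ _ ?_
    rw [IsIntegralHom.SpecMap_iff]
    exact algebraMap_isIntegral_iff.mpr inferInstance
  have hx : IsClosed ({x} : Set X) := by
    rw [show ({x} : Set X) = (Curv2.bcFst k X (AlgebraicClosure k)) '' {xb} from Set.image_singleton.symm]
    exact (Curv2.bcFst k X (AlgebraicClosure k)).isClosedMap _ hxb
  letI := Curv2.resAlgebra k X x
  letI := Curv2.stalkAlgebra k X x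
  haveI : Module.Finite k (X.residueField x) := finite_residueField k X x hx
  let f : X.presheaf.stalk x →ₐ[k] X.residueField x :=
    { (X.residue x).hom with commutes' := fun _ => rfl }
  obtain ⟨θ, q, hq, hloc, hcomp⟩ := H06DeltaBC.exists_localization k X (AlgebraicClosure k) xb
  let B : Type u := (Curv2.bc k X (AlgebraicClosure k)).presheaf.stalk xb
  letI : Algebra (X.presheaf.stalk x) B :=
    ((Curv2.bcFst k X (AlgebraicClosure k)).stalkMap xb).hom.toAlgebra
  haveI : IsLocalHom (θ.comp Algebra.TensorProduct.includeLeftRingHom) := by rw [hcomp]; infer_instance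
  have key := length_fibre f Ideal.Quotient.mk_surjective θ q hloc
  rw [hcomp] at key
  show Ideal.ramificationIdx (maximalIdeal B) (X.presheaf.stalk x) = _
  rw [Ideal.ramificationIdx_def]
  let Bq := Localization.AtPrime (maximalIdeal B)
  let e : B ≃ₐ[B] Bq := IsLocalization.atUnits B (maximalIdeal B).primeCompl
    (fun b hb => (IsUnit.mem_submonoid_iff b).mpr (by simpa [mem_maximalIdeal, mem_nonunits_iff] using hb))
  have hunder : (maximalIdeal B).under (X.presheaf.stalk x) = maximalIdeal (X.presheaf.stalk x) := by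
    rw [Ideal.under_def]
    exact ((IsLocalRing.local_hom_TFAE (algebraMap (X.presheaf.stalk x) B)).out 0 4).mp
      (inferInstance : IsLocalHom ((Curv2.bcFst k X (AlgebraicClosure k)).stalkMap xb).hom)
  rw [hunder]
  let J : Ideal B := (maximalIdeal (X.presheaf.stalk x)).map (algebraMap (X.presheaf.stalk x) B)
  let J' : Ideal Bq := (maximalIdeal (X.presheaf.stalk x)).map (algebraMap (X.presheaf.stalk x) Bq)
  have hJ' : J' = J.map (e.toRingEquiv : B →+* Bq) := by
    rw [Ideal.map_map]
    congr 1
  show (Module.length Bq (Bq ⧸ J')).toNat = _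
  rw [Module.length_eq_of_surjective (R := Bq ⧸ J') Ideal.Quotient.mk_surjective,
    ← length_eq_of_ringEquiv (Ideal.quotientEquiv J J' e.toRingEquiv hJ'),
    ← Module.length_eq_of_surjective (R := B ⧸ J) (S := B) (M := B ⧸ J) Ideal.Quotient.mk_surjective]
  exact congrArg ENat.toNat key |>.trans (ENat.toNat_natCast _)

end Groth.Agent.H06RamBC
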